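import Cfsg.Agent.Lib.CosetEnum.Ident
import Cfsg.Agent.Lib.CosetEnum.G24Rep.Data
import Cfsg.Agent.Lib.CosetEnum.G24Slp
import Cfsg.Agent.Lib.CosetEnum.SuzSub.Chain
import Cfsg.Agent.Lib.G24.Spectrum

/-! The presentation on a, …, f maps isomorphically onto the group of type G2 over the field of
four elements. -/

set_option autoImplicit false
set_option maxRecDepth 20000
set_option Elab.async false

namespace Cfsg.Agent.Lib.CosetEnum.G24Rep

open Cfsg.Agent.Lib.CosetEnum Cfsg.Agent.Lib.G24

/-- The number of a field element. -/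
def enc : K4 → ℕ
  | .z => 0 | .e => 1 | .w => 2 | .v => 3

/-- The field element with a given number. -/
def dec : ℕ → K4
  | 1 => .e | 2 => .w | 3 => .v | _ => .z

theorem enc_lt (x : K4) : enc x < 4 := by cases x <;> decide

theorem dec_enc (x : K4) : dec (enc x) = x := by cases x <;> rfl

/-- The vector with a given number. -/
def vec (i : ℕ) : Fin 6 → K4 := fun k => dec (i / 4 ^ k.1 % 4)

/-- The number of a vector. -/
def code (v : Fin 6 → K4) : ℕ :=
  enc (v 0) + 4 * enc (v 1) + 16 * enc (v 2) + 64 * enc (v 3) + 256 * enc (v 4) + 1024 * enc (v 5)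

theorem code_lt (v : Fin 6 → K4) : code v < 4096 := by
  have h0 := enc_lt (v 0)
  have h1 := enc_lt (v 1)
  have h2 := enc_lt (v 2)
  have h3 := enc_lt (v 3)
  have h4 := enc_lt (v 4)
  have h5 := enc_lt (v 5)
  unfold code
  omega

theorem vec_code (v : Fin 6 → K4) : vec (code v) = v := by
  have h0 := enc_lt (v 0)
  have h1 := enc_lt (v 1)
  have h2 := enc_lt (v 2)
  have h3 := enc_lt (v 3)
  have h4 := enc_lt (v 4)
  have h5 := enc_lt (v 5)
  have key : ∀ k : Fin 6, code v / 4 ^ k.1 % 4 = enc (v k) := by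
    simp only [Fin.forall_fin_succ, Fin.forall_fin_zero_pi, IsEmpty.forall_iff, and_true, code,
      Fin.val_succ, Fin.val_zero, Fin.succ_zero_eq_one, Fin.succ_one_eq_two]
    norm_num
    refine ⟨?_, ?_, ?_, ?_, ?_, ?_⟩ <;> first | omega | (simp [Fin.succ]; omega)
  funext k
  rw [vec, key k, dec_enc]

theorem vec_inj {a b : ℕ} (ha : a < 4096) (hb : b < 4096) (h : vec a = vec b) : a = b := by
  have key : ∀ n < 4096, code (vec n) = n := by
    intro n hn
    have hd : ∀ m < 4, enc (dec m) = m := by decide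
    simp only [code, vec]
    rw [hd _ (Nat.mod_lt _ (by norm_num)), hd _ (Nat.mod_lt _ (by norm_num)),
      hd _ (Nat.mod_lt _ (by norm_num)), hd _ (Nat.mod_lt _ (by norm_num)),
      hd _ (Nat.mod_lt _ (by norm_num)), hd _ (Nat.mod_lt _ (by norm_num))]
    norm_num
    omega
  rw [← key a ha, ← key b hb, h]

/-- A root of given number. -/
def root (r : ℕ) : Fin 12 := ⟨r % 12, Nat.mod_lt _ (by norm_num)⟩

/-- A product of root elements. -/
def wordElt (l : List (ℕ × ℕ)) : G6 :=
  (l.map fun p => (⟨xg (root p.1) (dec p.2), xg_mem _ _⟩ : G6)).prod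

/-- The generators. -/
def gen (g : ℕ) : G6 := wordElt (words.getD g [])

/-- One root element on numbered vectors. -/
noncomputable def stepN (p : ℕ × ℕ) (n : ℕ) : ℕ :=
  code (Matrix.mulVec (xm (root p.1) (dec p.2)) (vec n))

/-- A product of root elements on numbered vectors. -/
noncomputable def evalN (l : List (ℕ × ℕ)) : ℕ → ℕ :=
  List.rec (motive := fun _ => ℕ → ℕ) (fun n => n) (fun p _ ih n => force (ih n) (stepN p)) l

theorem wordElt_mulVec (l : List (ℕ × ℕ)) (n : ℕ) :
    Matrix.mulVec (((wordElt l : G6) : GL (Fin 6) K4) : M6) (vec n) = vec (evalN l n) := by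
  induction l with
  | nil =>
    change Matrix.mulVec (((1 : G6) : GL (Fin 6) K4) : M6) (vec n) = vec n
    simp
  | cons p l ih =>
    have e : wordElt (p :: l) = ⟨xg (root p.1) (dec p.2), xg_mem _ _⟩ * wordElt l := by
      simp [wordElt]
    change _ = vec (force (evalN l n) (stepN p))
    rw [e, Subgroup.coe_mul, Units.val_mul, ← Matrix.mulVec_mulVec, ih, force_eq, stepN, vec_code]
    rfl

/-- An entry of a generator. -/
noncomputable def entN (g r c : ℕ) : ℕ := (rows.getD g []).getD r 0 / 4 ^ c % 4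

/-- The generators as matrices. -/
noncomputable def entry (g : ℕ) : M6 := Matrix.of fun r c => dec (entN g r.1 c.1)

theorem basis_ok : ∀ g < 6, ∀ k : Fin 6, evalN (words.getD g []) (4 ^ k.1) =
    code (fun r => dec (entN g r.1 k.1)) ∧ vec (4 ^ k.1) = Pi.single k 1 := by
  decide +kernel

theorem gen_eq (g : ℕ) (hg : g < 6) : (((gen g : G6) : GL (Fin 6) K4) : M6) = entry g := by
  apply Matrix.ext
  intro r c
  have h := wordElt_mulVec (words.getD g []) (4 ^ c.1)
  rw [(basis_ok g hg c).1, vec_code, (basis_ok g hg c).2, Matrix.mulVec_single_one] at h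
  exact congrFun h r

/-- Row `i` of the table is the action of the matrices. -/
noncomputable def actAt (i : ℕ) : Bool :=
  allBelow 6 fun g => force (get32 table (i * 6 + g)) fun t => Nat.blt t 4096 &&
    allBelow 6 fun r => decide (dec (t / 4 ^ r % 4) =
      dec (entN g r 0) * dec (i % 4) + dec (entN g r 1) * dec (i / 4 % 4) +
      dec (entN g r 2) * dec (i / 16 % 4) + dec (entN g r 3) * dec (i / 64 % 4) +
      dec (entN g r 4) * dec (i / 256 % 4) + dec (entN g r 5) * dec (i / 1024 % 4))

theorem act_part0 : allFrom 0 700 actAt = true := by decide +kernel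

theorem act_part1 : allFrom 700 700 actAt = true := by decide +kernel

theorem act_part2 : allFrom 1400 700 actAt = true := by decide +kernel

theorem act_part3 : allFrom 2100 700 actAt = true := by decide +kernel

theorem act_part4 : allFrom 2800 700 actAt = true := by decide +kernel

theorem act_part5 : allFrom 3500 596 actAt = true := by decide +kernel

theorem act_ok : allBelow 4096 actAt = true :=
  allBelow_add (allBelow_add (allBelow_add (allBelow_add (allBelow_add (allBelow_add
    (rfl : allBelow 0 actAt = true) act_part0 (rfl : 0 + 700 = 700))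
    act_part1 (rfl : 700 + 700 = 1400)) act_part2 (rfl : 1400 + 700 = 2100))
    act_part3 (rfl : 2100 + 700 = 2800)) act_part4 (rfl : 2800 + 700 = 3500))
    act_part5 (rfl : 3500 + 596 = 4096)

theorem act (g : ℕ) (hg : g < 6) (i : ℕ) (hi : i < 4096) :
    get32 table (i * 6 + g) < 4096 ∧
      Matrix.mulVec (entry g) (vec i) = vec (get32 table (i * 6 + g)) := by
  have h := allBelow_iff.1 (allBelow_iff.1 act_ok i hi) g hg
  simp only [force_eq, Bool.and_eq_true, Nat.blt_eq] at h
  refine ⟨h.1, ?_⟩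
  funext r
  have h4 := of_decide_eq_true (allBelow_iff.1 h.2 r.1 r.2)
  simp only [vec]
  rw [h4]
  simp [Matrix.mulVec, dotProduct, Fin.sum_univ_six, entry]
  simp only [vec]
  norm_num

/-- Vectors and their numbers. -/
noncomputable def vecEquiv : Fin 4096 ≃ (Fin 6 → K4) where
  toFun i := vec i.1
  invFun v := ⟨code v, code_lt v⟩
  left_inv i := Fin.ext (vec_inj (code_lt _) i.2 (vec_code _))
  right_inv := vec_code

/-- The action on the numbers of vectors. -/
noncomputable def σ : G6 →* Equiv.Perm (Fin 4096) where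
  toFun x :=
    { toFun := fun i => vecEquiv.symm (Matrix.mulVec (x.1.1) (vecEquiv i))
      invFun := fun i => vecEquiv.symm (Matrix.mulVec (x.1⁻¹.1) (vecEquiv i))
      left_inv := fun i => by simp [Matrix.mulVec_mulVec]
      right_inv := fun i => by simp [Matrix.mulVec_mulVec] }
  map_one' := by ext i; simp
  map_mul' a b := by ext i; simp [Matrix.mulVec_mulVec]

theorem σ_injective : Function.Injective σ := by
  rw [injective_iff_map_eq_one]
  intro x hx
  apply Subtype.ext
  apply Units.ext
  apply Matrix.mulVec_injective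
  funext v
  have h := congrArg vecEquiv (Equiv.ext_iff.1 hx (vecEquiv.symm v))
  simp only [Equiv.Perm.one_apply, Equiv.apply_symm_apply] at h
  change Matrix.mulVec x.1.1 v = Matrix.mulVec 1 v
  rw [Matrix.one_mulVec]
  refine Eq.trans ?_ h
  change _ = vecEquiv (vecEquiv.symm _)
  simp

theorem inv_ok : ∀ g < 6, ∀ k : Fin 6,
    get32 table (get32 table (4 ^ k.1 * 6 + g) * 6 + g) = 4 ^ k.1 := by decide +kernel

theorem pow_lt (k : Fin 6) : 4 ^ k.1 < 4096 := by revert k; decide

theorem gen_inv (g : ℕ) (hg : g < 6) : (gen g)⁻¹ = gen g := by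
  apply inv_eq_of_mul_eq_one_right
  apply Subtype.ext
  apply Units.ext
  apply Matrix.ext
  intro r c
  rw [Subgroup.coe_mul, Units.val_mul, gen_eq g hg, Subgroup.coe_one, Units.val_one]
  have h1 := act g hg _ (pow_lt c)
  have h2 := (act g hg _ h1.1).2
  rw [inv_ok g hg c, ← h1.2, Matrix.mulVec_mulVec, (basis_ok g hg c).2,
    Matrix.mulVec_single_one] at h2
  have := congrFun h2 r
  simpa [Pi.single_apply, Matrix.one_apply, eq_comm] using this

theorem σ_gen (g : ℕ) (hg : g < 6) (i : Fin 4096) :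
    ((σ (gen g))⁻¹ i).1 = get32 table (i.1 * 6 + g) := by
  obtain ⟨h, h1⟩ := act g hg i.1 i.2
  rw [← map_inv, gen_inv g hg]
  change (vecEquiv.symm (Matrix.mulVec (((gen g : G6) : GL (Fin 6) K4) : M6) (vec i.1))).1 = _
  rw [gen_eq g hg, h1]
  change code (vec _) = _
  exact vec_inj (code_lt _) h (vec_code _)

theorem rels_fix : ∀ l ∈ SuzSub.RL0, (∀ g ∈ l, g < 6) ∧ ∀ k : Fin 6,
    scan 6 table l (4 ^ k.1) = 4 ^ k.1 := by decide +kernel

theorem rels_one (l : List ℕ) (hl : l ∈ SuzSub.RL0) : (l.map gen).prod = 1 := by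
  obtain ⟨hlt, hfix⟩ := rels_fix l hl
  have hs := scan_of_table σ gen σ_gen l hlt
  set x := (l.map gen).prod
  suffices hx : x⁻¹ = 1 by rwa [inv_eq_one] at hx
  apply Subtype.ext
  apply Units.ext
  apply Matrix.ext
  intro r c
  have hfix' : (σ x)⁻¹ ⟨4 ^ c.1, pow_lt c⟩ = ⟨4 ^ c.1, pow_lt c⟩ :=
    Fin.ext ((hs _).trans (hfix c))
  have h := congrArg vecEquiv hfix'
  rw [← map_inv] at h
  change vecEquiv (vecEquiv.symm (Matrix.mulVec (x⁻¹).1.1 (vec (4 ^ c.1)))) = vec (4 ^ c.1) at h
  rw [Equiv.apply_symm_apply, (basis_ok 0 (by omega) c).2, Matrix.mulVec_single_one] at h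
  have := congrFun h r
  simpa [Pi.single_apply, Matrix.one_apply, eq_comm] using this

theorem nonempty_iso : Nonempty (PresentedGroup SuzSub.pres ≃* G6) := by
  obtain ⟨ψ, hψ⟩ := invPres_prod (n := 5) (RL0 := SuzSub.RL0) gen
    fun l hl => ⟨(rels_fix l hl).1, rels_one l hl⟩
  have hge : 251596800 ≤ Nat.card (σ.comp ψ).range :=
    G24Slp.card_ge (σ.comp ψ) (fun g => SuzSub.letters.phi SuzSub.pres g) fun g hg i => by
      rw [MonoidHom.comp_apply, hψ g hg]
      exact σ_gen g hg i
  have hinj' := injective_of_card (σ.comp ψ) SuzSub.card_le hge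
  have hinj : Function.Injective ψ := fun a b h => hinj' (congrArg σ h)
  haveI : Finite (PresentedGroup SuzSub.pres) := Nat.finite_of_card_ne_zero SuzSub.card_le.1
  haveI : Finite G6 := Nat.finite_of_card_ne_zero (by rw [card_G6]; omega)
  have hP : Nat.card (PresentedGroup SuzSub.pres) = 251596800 :=
    le_antisymm SuzSub.card_le.2 (hge.trans (Nat.card_le_card_of_surjective
      (σ.comp ψ).rangeRestrict (σ.comp ψ).rangeRestrict_surjective))
  exact ⟨MulEquiv.ofBijective ψ ((Nat.bijective_iff_injective_and_card _).2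
    ⟨hinj, by rw [hP, card_G6]⟩)⟩

end Cfsg.Agent.Lib.CosetEnum.G24Rep
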